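import Mathlib.RingTheory.Adjoin.FG
import Mathlib.Algebra.Category.Ring.FilteredColimits
import Mathlib.Algebra.Category.Ring.Colimits
import Mathlib.CategoryTheory.Limits.Types.Filtered
import Mathlib.AlgebraicGeometry.Morphisms.Affine
import Mathlib

/-!
# The spectrum of an algebra is the limit of the spectra of its finitely generated subalgebras
-/

set_option autoImplicit false
set_option backward.isDefEq.respectTransparency false
universe u

open CategoryTheory Limits AlgebraicGeometry Opposite

noncomputable section

namespace GrothLib.GenSmoothing26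

variable (k A : Type u) [CommRing k] [CommRing A] [Algebra k A]

/-- The finitely generated subalgebras. -/
abbrev KSub : Type u := {S : Subalgebra k A // S.FG}

instance : IsDirected (KSub k A) (· ≤ ·) :=
  ⟨fun S T => ⟨⟨S.1 ⊔ T.1, S.2.sup T.2⟩, le_sup_left (b := T.1), le_sup_right (a := S.1)⟩⟩

instance : Nonempty (KSub k A) := ⟨⟨⊥, Subalgebra.fg_bot⟩⟩

/-- The diagram of finitely generated subalgebras. -/
def kFunctor : KSub k A ⥤ CommRingCat.{u} where
  obj S := CommRingCat.of ↥S.1
  map h := CommRingCat.ofHom (Subalgebra.inclusion (leOfHom h)).toRingHom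
  map_id S := rfl
  map_comp f g := rfl

/-- The cocone of inclusions into the algebra. -/
def kCocone : Cocone (kFunctor k A) where
  pt := CommRingCat.of A
  ι := { app := fun S => CommRingCat.ofHom (algebraMap ↥S.1 A)
         naturality := fun S T h => rfl }

/-- The algebra is the colimit of its finitely generated subalgebras. -/
def isColimitKCocone : IsColimit (kCocone k A) := by
  haveI := reflectsColimit_of_reflectsIsomorphisms (kFunctor k A) (forget CommRingCat)
  refine isColimitOfReflects (forget CommRingCat) (Types.FilteredColimit.isColimitOf _ _ (fun a => ?_) ?_)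
  · exact ⟨⟨Algebra.adjoin k (({a} : Finset A) : Set A), Subalgebra.fg_adjoin_finset _⟩,
      ⟨a, Algebra.subset_adjoin (by simp)⟩, rfl⟩
  · intro S T x y h
    refine ⟨⟨S.1 ⊔ T.1, S.2.sup T.2⟩, homOfLE (show S.1 ≤ S.1 ⊔ T.1 from le_sup_left),
      homOfLE (show T.1 ≤ S.1 ⊔ T.1 from le_sup_right), ?_⟩
    exact Subtype.ext h

/-- The spectra of the finitely generated subalgebras. -/
def kDiagram : (KSub k A)ᵒᵖ ⥤ Scheme.{u} := (kFunctor k A).op ⋙ Scheme.Spec

/-- The cone from the spectrum of the algebra. -/
def kCone : Cone (kDiagram k A) := Scheme.Spec.mapCone (kCocone k A).op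

/-- The spectrum of the algebra is the limit of the spectra of the finitely generated subalgebras. -/
def isLimitKCone : IsLimit (kCone k A) :=
  isLimitOfPreserves Scheme.Spec (isColimitKCocone k A).op

instance (i : (KSub k A)ᵒᵖ) : IsAffine ((kDiagram k A).obj i) :=
  inferInstanceAs (IsAffine (Spec _))

instance (i j : (KSub k A)ᵒᵖ) (f : i ⟶ j) : IsAffineHom ((kDiagram k A).map f) :=
  isAffineHom_of_isAffine _

instance (i : (KSub k A)ᵒᵖ) : CompactSpace ((kDiagram k A).obj i) :=
  isCompact_univ_iff.mp (isAffineOpen_top ((kDiagram k A).obj i)).isCompact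

instance (i : (KSub k A)ᵒᵖ) : QuasiSeparatedSpace ((kDiagram k A).obj i) :=
  inferInstance

theorem kCone_π (i : (KSub k A)ᵒᵖ) :
    (kCone k A).π.app i = Spec.map (CommRingCat.ofHom (algebraMap ↥i.unop.1 A)) := rfl

end GrothLib.GenSmoothing26
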