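import Groth.Agent.Lib.GenSmoothing26.Stage
import Groth.Agent.Lib.CurveThru26.Basic
import Groth.Agent.Lib.Chow.Prod
import Groth.Prelude.Def_CohB1
import Mathlib

/-!
# From a smoothing over power series to a smoothing over a curve
-/

set_option autoImplicit false
set_option backward.isDefEq.respectTransparency false
set_option linter.style.haveILetI false
universe u

open CategoryTheory Limits AlgebraicGeometry Opposite Polynomial

noncomputable section

namespace GrothLib.GenSmoothing26

/-- Through a rational point of an affine variety there is a smooth affine curve whose generic point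
maps into a given nonempty open. -/
theorem exists_affine_curve {k : Type u} [Field k] [IsAlgClosed k] {A : Type u} [CommRing A] [IsDomain A]
    [Algebra k A] [Algebra.FiniteType k A] (ev₀ : A →ₐ[k] k)
    (U : (Spec (CommRingCat.of A)).Opens) (hU : (U : Set (Spec (CommRingCat.of A))).Nonempty) :
    ∃ (C : Scheme.{u}) (qC : C ⟶ Spec (CommRingCat.of k)) (c : Spec (CommRingCat.of k) ⟶ C)
      (χ : C ⟶ Spec (CommRingCat.of A)),
      c ≫ qC = 𝟙 _ ∧ IsIntegral C ∧ IsAffine C ∧ Smooth qC ∧ topologicalKrullDim C = 1 ∧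
        c ≫ χ = Spec.map (CommRingCat.ofHom ev₀.toRingHom) ∧
        ∃ η : C, closure ({η} : Set C) = Set.univ ∧ χ η ∈ U := by
  let V : Scheme.{u} := Spec (CommRingCat.of A[X])
  let pV : V ⟶ Spec (CommRingCat.of k) := Spec.map (CommRingCat.ofHom (algebraMap k A[X]))
  let π : V ⟶ Spec (CommRingCat.of A) := Spec.map (CommRingCat.ofHom (Polynomial.C : A →+* A[X]))
  let ev : A[X] →+* k := Polynomial.eval₂RingHom ev₀.toRingHom 0
  let pt : Spec (CommRingCat.of k) ⟶ V := Spec.map (CommRingCat.ofHom ev)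
  have hpt : pt ≫ pV = 𝟙 _ := by
    rw [← Spec.map_comp, ← CommRingCat.ofHom_comp, ← Spec.map_id]
    congr 2
    refine RingHom.ext fun a => ?_
    simp [ev, Polynomial.algebraMap_apply]
  have hptπ : pt ≫ π = Spec.map (CommRingCat.ofHom ev₀.toRingHom) := by
    rw [← Spec.map_comp, ← CommRingCat.ofHom_comp]
    congr 2
    exact RingHom.ext fun a => by simp [ev]
  haveI : LocallyOfFiniteType pV := by
    rw [HasRingHomProperty.Spec_iff (P := @LocallyOfFiniteType)]
    exact (RingHom.finiteType_algebraMap).mpr (Algebra.FiniteType.trans (R := k) (S := A) inferInstance inferInstance)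
  haveI : IsIntegral V := inferInstanceAs (IsIntegral (Spec (CommRingCat.of A[X])))
  let v₀ : V := pt (IsLocalRing.closedPoint k)
  have hsep : IsSeparated pV := inferInstance
  have hv₀ : IsClosed ({v₀} : Set V) := ((pointEquivClosedPoint pV) ⟨pt, hpt⟩).2
  let O : V.Opens := π ⁻¹ᵁ U ⊓ ⟨({v₀} : Set V)ᶜ, hv₀.isOpen_compl⟩
  have hO : (O : Set V).Nonempty := by
    let g : V := (⟨⊥, Ideal.isPrime_bot⟩ : PrimeSpectrum A[X])
    refine ⟨g, ?_, ?_⟩
    · obtain ⟨z, hz⟩ := hU
      have : π g = (⟨⊥, Ideal.isPrime_bot⟩ : PrimeSpectrum A) := by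
        refine PrimeSpectrum.ext ?_
        show Ideal.comap Polynomial.C (⊥ : Ideal A[X]) = ⊥
        rw [Ideal.comap_bot_of_injective _ Polynomial.C_injective]
      show π g ∈ U
      rw [this]
      refine Specializes.mem_open ?_ U.2 hz
      exact (PrimeSpectrum.le_iff_specializes _ (show PrimeSpectrum A from z)).mp
        (show (⊥ : Ideal A) ≤ (show PrimeSpectrum A from z).asIdeal from bot_le)
    · intro h
      have h' := congrArg PrimeSpectrum.asIdeal (Set.mem_singleton_iff.mp h)
      have hX : (Polynomial.X : A[X]) ∈ (show PrimeSpectrum A[X] from v₀).asIdeal := by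
        show (Polynomial.X : A[X]) ∈ (IsLocalRing.maximalIdeal k).comap ev
        rw [Ideal.mem_comap]
        simp [ev]
      rw [← h'] at hX
      exact Polynomial.X_ne_zero ((Submodule.mem_bot A[X]).mp hX)
  obtain ⟨N, pN, N₀, φ, hpN, hsN, hiN, hφ, ⟨n, hn⟩, ⟨m, hm⟩, hdim⟩ :=
    GrothLib.Rigidity.exists_proper_curve_dim pV v₀ hv₀ O hO (fun h => h.2 rfl)
  obtain ⟨W, hW, hnW, hWN⟩ := exists_isAffineOpen_mem_and_subset (U := N₀) (x := N₀.ι n) n.2
  haveI : IsAffine (W : Scheme.{u}) := hW
  haveI : Nonempty (W : Scheme.{u}) := ⟨⟨_, hnW⟩⟩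
  haveI : IsIntegral (W : Scheme.{u}) := isIntegral_of_isOpenImmersion W.ι
  let qC : (W : Scheme.{u}) ⟶ Spec (CommRingCat.of k) := W.ι ≫ pN
  let ψ : (W : Scheme.{u}) ⟶ V := N.homOfLE hWN ≫ φ
  have hψ : ψ ≫ pV = qC := by rw [Category.assoc, hφ, Scheme.homOfLE_ι_assoc]
  have hψ' : ∀ z : (W : Scheme.{u}), ψ z = φ ⟨z.1, hWN z.2⟩ := fun z => by
    rw [show ψ z = φ (N.homOfLE hWN z) from Scheme.Hom.comp_apply _ _ _]
    exact congrArg φ (Subtype.ext (Scheme.homOfLE_apply hWN z))
  haveI : Smooth qC := inferInstance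
  haveI : JacobsonSpace (W : Scheme.{u}) := LocallyOfFiniteType.jacobsonSpace qC
  have hne : (ψ ⁻¹' {v₀}).Nonempty := ⟨⟨_, hnW⟩, by rw [Set.mem_preimage, hψ']; exact hn⟩
  obtain ⟨x, hx, hxc⟩ :=
    nonempty_inter_closedPoints hne (hv₀.preimage ψ.continuous).isLocallyClosed
  let c : Spec (CommRingCat.of k) ⟶ (W : Scheme.{u}) := pointOfClosedPoint qC x hxc
  have hc : c ≫ ψ = pt := by
    refine ext_of_apply_closedPoint_eq pV ?_ hpt ?_
    · rw [Category.assoc, hψ]; exact pointOfClosedPoint_comp qC x hxc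
    · rw [Scheme.Hom.comp_apply, pointOfClosedPoint_apply]; exact hx
  let η : (W : Scheme.{u}) := genericPoint (W : Scheme.{u})
  have hη : ψ η ∈ O := by
    obtain ⟨y, hyW, hyO⟩ := nonempty_preirreducible_inter W.2 (N₀.ι.opensFunctor.obj (φ ⁻¹ᵁ O)).2
      ⟨_, hnW⟩ ⟨_, m, hm, rfl⟩
    obtain ⟨y', hy', rfl⟩ := hyO
    have : ψ ⟨_, hyW⟩ ∈ O := by rw [hψ']; exact hy'
    exact ((genericPoint_spec (W : Scheme.{u})).mem_open_set_iff (ψ ⁻¹ᵁ O).2).mpr
      ⟨⟨_, hyW⟩, trivial, this⟩
  have hd : topologicalKrullDim (W : Scheme.{u}) = 1 := by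
    refine le_antisymm ((W.ι.isOpenEmbedding.isInducing.topologicalKrullDim_le).trans hdim) ?_
    rw [show topologicalKrullDim (W : Scheme.{u}) = Order.krullDim (W : Scheme.{u}) from
      (Order.krullDim_eq_of_orderIso (irreducibleSetEquivPoints (α := ↥(W : Scheme.{u})))), Order.one_le_krullDim_iff]
    have hle : η ⤳ x := (genericPoint_spec (W : Scheme.{u})).specializes trivial
    refine ⟨x, η, lt_iff_le_not_ge.mpr ⟨hle, fun h => hη.2 ?_⟩⟩
    have e : η = x := hle.antisymm h |>.eq
    exact show ψ η = v₀ from e ▸ hx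
  refine ⟨W, qC, c, ψ ≫ π, pointOfClosedPoint_comp qC x hxc, inferInstance, inferInstance, inferInstance, hd,
    ?_, η, (genericPoint_spec (W : Scheme.{u})).def, ?_⟩
  · rw [← Category.assoc, hc, hptπ]
  · rw [Scheme.Hom.comp_apply]; exact hη.1

/-- A flat proper smoothing over power series gives a geometric smoothing. -/
theorem exists_smoothing {k : Type u} [Field k] [IsAlgClosed k]
    {X : Scheme.{u}} (pX : X ⟶ Spec (CommRingCat.of k))
    {P : Scheme.{u}} (p : P ⟶ Spec (CommRingCat.of (PowerSeries k))) [Flat p] [IsProper p]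
    (i : X ⟶ P)
    (hX : IsPullback i pX p (Spec.map (CommRingCat.ofHom (PowerSeries.constantCoeff (R := k)))))
    (hgen : Smooth (pullback.snd p
      (Spec.map (CommRingCat.ofHom (algebraMap (PowerSeries k) (FractionRing (PowerSeries k))))))) :
    ∃ (C : Scheme.{u}) (qC : C ⟶ Spec (CommRingCat.of k)) (c : Spec (CommRingCat.of k) ⟶ C)
      (_ : c ≫ qC = 𝟙 (Spec (CommRingCat.of k))) (_ : IsIntegral C) (_ : IsAffine C) (_ : Smooth qC)
      (_ : topologicalKrullDim C = 1)
      (Y : Scheme.{u}) (π : Y ⟶ C) (_ : Flat π) (_ : IsProper π) (j : X ⟶ Y)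
      (η : C) (_ : closure ({η} : Set C) = Set.univ),
      IsPullback j pX π c ∧ Smooth (π.fiberToSpecResidueField η) := by
  haveI : LocallyOfFinitePresentation p := inferInstance
  obtain ⟨S, hS, Q, q, r, hqf, hqp, hqfp, hr⟩ := exists_flat_proper_model k (PowerSeries k) p
  haveI : Algebra.FiniteType k ↥S := (Subalgebra.fg_iff_finiteType S).mp hS
  let K := FractionRing (PowerSeries k)
  let ι : ↥S →+* PowerSeries k := algebraMap ↥S (PowerSeries k)
  let φ : ↥S →+* K := (algebraMap (PowerSeries k) K).comp ι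
  have hφ : Function.Injective φ :=
    (IsFractionRing.injective (PowerSeries k) K).comp Subtype.val_injective
  let t : Spec (CommRingCat.of K) ⟶ Spec (CommRingCat.of (PowerSeries k)) :=
    Spec.map (CommRingCat.ofHom (algebraMap (PowerSeries k) K))
  have hK : Smooth (pullback.snd q (Spec.map (CommRingCat.ofHom φ))) := by
    have hp := (IsPullback.of_hasPullback p t).paste_horiz hr
    rw [← Spec.map_comp, ← CommRingCat.ofHom_comp] at hp
    exact GrothLib.LimDesc.of_isPullback_of_isPullback @Smooth hp (IsPullback.of_hasPullback _ _) hgen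
  obtain ⟨W, w, hw, hW, hWs⟩ := exists_open_smooth ↥S q K φ hφ hK
  let ev₀ : ↥S →ₐ[k] k :=
    { toRingHom := (PowerSeries.constantCoeff (R := k)).comp ι
      commutes' := fun a => by simp [ι, RingHom.comp_apply] }
  obtain ⟨C, qC, c, χ, hc, hCi, hCa, hCs, hCd, hcχ, η, hη, hηU⟩ :=
    exists_affine_curve ev₀ w.opensRange ⟨_, Set.mem_range_self (Classical.arbitrary W)⟩
  have hX' : IsPullback (i ≫ r) pX q (c ≫ χ) := by
    rw [hcχ]
    have := hX.paste_horiz hr
    rw [← Spec.map_comp, ← CommRingCat.ofHom_comp] at this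
    exact this
  let j : X ⟶ pullback q χ := pullback.lift (i ≫ r) (pX ≫ c) (by rw [hX'.w, Category.assoc])
  refine ⟨C, qC, c, hc, hCi, hCa, hCs, hCd, pullback q χ, pullback.snd q χ,
    MorphismProperty.pullback_snd q χ hqf, MorphismProperty.pullback_snd q χ hqp, j, η, hη, ?_, ?_⟩
  · refine IsPullback.of_right ?_ (pullback.lift_snd _ _ _) (IsPullback.of_hasPullback q χ)
    rw [pullback.lift_fst]
    exact hX'
  · let f := C.fromSpecResidueField η
    have hr' : Set.range (f ≫ χ) ⊆ Set.range w := by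
      rintro _ ⟨z, rfl⟩
      rw [Scheme.Hom.comp_apply, Scheme.fromSpecResidueField_apply]
      exact hηU
    let l := IsOpenImmersion.lift w (f ≫ χ) hr'
    have h1 : IsPullback (pullback.fst (pullback.snd q w) l ≫ pullback.fst q w)
        (pullback.snd (pullback.snd q w) l) q (l ≫ w) :=
      (IsPullback.of_hasPullback _ _).paste_horiz (IsPullback.of_hasPullback _ _)
    rw [IsOpenImmersion.lift_fac] at h1
    have h2 := (IsPullback.of_hasPullback (pullback.snd q χ) f).paste_horiz (IsPullback.of_hasPullback q χ)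
    exact GrothLib.LimDesc.of_isPullback_of_isPullback @Smooth h1 h2
      (MorphismProperty.pullback_snd (P := @Smooth) _ l hWs)

end GrothLib.GenSmoothing26
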