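import Groth.Agent.Lib.LimDescend.Property
import Groth.Agent.Lib.LimDesc.Proper
import Groth.Agent.Lib.LimSmooth.Affine
import Groth.Agent.Lib.FlatLimit.Affine
import Groth.Agent.Lib.GenericStage.Basic
import Groth.Agent.Lib.GenSmoothing26.KSub
import Groth.Agent.Lib.Rigidity.SemiAbelian
import Mathlib

/-!
# Flat proper models and generic smoothness of a model
-/

set_option autoImplicit false
set_option backward.isDefEq.respectTransparency false
set_option linter.style.haveILetI false
universe u

open CategoryTheory Limits AlgebraicGeometry Opposite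

noncomputable section

namespace GrothLib.GenSmoothing26

/-- A flat proper finitely presented scheme over an algebra has a flat proper model over a finitely
generated subalgebra. -/
theorem exists_flat_proper_model (k R : Type u) [CommRing k] [CommRing R] [Algebra k R] {P : Scheme.{u}}
    (p : P ⟶ Spec (CommRingCat.of R)) [LocallyOfFinitePresentation p] [Flat p] [IsProper p] :
    ∃ (S : Subalgebra k R) (_ : S.FG) (Q : Scheme.{u}) (q : Q ⟶ Spec (CommRingCat.of ↥S)) (r : P ⟶ Q),
      Flat q ∧ IsProper q ∧ LocallyOfFinitePresentation q ∧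
        IsPullback r p q (Spec.map (CommRingCat.ofHom (algebraMap ↥S R))) := by
  let D := kDiagram k R
  let c := kCone k R
  have hc := isLimitKCone k R
  obtain ⟨j, M, hM⟩ := GrothLib.LimDescend.exists_model_property D c hc @Flat
    (fun a b hb ha => by haveI := ha; haveI := hb; exact (inferInstance : Flat (a ≫ b)))
    GrothLib.LimDesc.affineCase_flat (X := P) p ‹Flat p›
  haveI := GrothLib.LimDescend.compactSpace_model D c M
  haveI : QuasiSeparatedSpace M.obj := quasiSeparatedSpace_of_quasiSeparated M.hom
  have hY : IsPullback (c.π.app j) (𝟙 c.pt) (𝟙 (D.obj j)) (c.π.app j) := IsPullback.of_id_fst.flip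
  haveI : IsProper (show P ⟶ c.pt from p) := ‹IsProper p›
  obtain ⟨l, hl⟩ := GrothLib.LimDesc.exists_isProper D hc M.hom (𝟙 _) hY M.isPullback
  let M' := M.map D c l.hom
  have h1 : IsProper M'.hom := by
    have e : M'.hom = (pullback.congrHom (Category.comp_id M.hom).symm rfl).hom ≫
        (GrothLib.LimDesc.mapNat D j (𝟙 _) (M.hom ≫ 𝟙 _) M.hom rfl).app l ≫
          pullback.snd (𝟙 _) (D.map l.hom) := by
      simp [M', GrothLib.LimDescend.Model.map, GrothLib.LimDesc.mapNat]
    rw [e]
    haveI := hl
    haveI : IsIso (pullback.snd (𝟙 (D.obj j)) (D.map l.hom)) := inferInstance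
    exact inferInstance
  have h2 : Flat M'.hom := MorphismProperty.pullback_snd (P := @Flat) _ _ hM
  exact ⟨l.left.unop.1, l.left.unop.2, M'.obj, M'.hom, M'.proj, h2, h1, M'.lfp, M'.isPullback⟩

/-- A finitely presented morphism to the spectrum of a domain which is smooth over an extension of the
fraction field is smooth over a nonempty open. -/
theorem exists_open_smooth (A : Type u) [CommRing A] [IsDomain A] {Q : Scheme.{u}}
    (q : Q ⟶ Spec (CommRingCat.of A)) [LocallyOfFinitePresentation q] [QuasiCompact q]
    (K : Type u) [Field K] (φ : A →+* K) (hφ : Function.Injective φ)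
    (h : Smooth (pullback.snd q (Spec.map (CommRingCat.ofHom φ)))) :
    ∃ (W : Scheme.{u}) (w : W ⟶ Spec (CommRingCat.of A)),
      IsOpenImmersion w ∧ Nonempty W ∧ Smooth (pullback.snd q w) := by
  let L := FractionRing A
  let ψ : L →+* K := IsFractionRing.lift hφ
  let e₁ : Spec (CommRingCat.of K) ⟶ Spec (CommRingCat.of L) := Spec.map (CommRingCat.ofHom ψ)
  let t : Spec (CommRingCat.of L) ⟶ Spec (CommRingCat.of A) :=
    Spec.map (CommRingCat.ofHom (algebraMap A L))
  have he : e₁ ≫ t = Spec.map (CommRingCat.ofHom φ) := by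
    rw [← Spec.map_comp, ← CommRingCat.ofHom_comp]
    congr 2
    exact RingHom.ext fun a => IsFractionRing.lift_algebraMap hφ a
  haveI : Flat e₁ := by
    rw [HasRingHomProperty.Spec_iff (P := @Flat), RingHom.Flat]
    letI := ψ.toAlgebra
    exact (Module.Flat.of_free : Module.Flat L K)
  haveI : Surjective e₁ := ⟨fun z => ⟨IsLocalRing.closedPoint K, Subsingleton.elim (α := PrimeSpectrum L) _ _⟩⟩
  haveI : QuasiCompact e₁ := inferInstance
  have hL : Smooth (pullback.snd q t) := by
    refine MorphismProperty.of_pullback_snd_of_descendsAlong (P := @Smooth) (Q := EtSite.fpqcCov)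
      (show EtSite.fpqcCov e₁ from ⟨⟨inferInstance, inferInstance⟩, inferInstance⟩) ?_
    have hp : IsPullback (pullback.fst (pullback.snd q t) e₁ ≫ pullback.fst q t)
        (pullback.snd (pullback.snd q t) e₁) q (e₁ ≫ t) :=
      (IsPullback.of_hasPullback _ _).paste_horiz (IsPullback.of_hasPullback _ _)
    rw [he] at hp
    exact GrothLib.LimDesc.of_isPullback_of_isPullback @Smooth (IsPullback.of_hasPullback _ _) hp h
  let D := GrothLib.GenericStage.diagram A
  let c := GrothLib.GenericStage.cone A
  let i₀ : (GrothLib.GenericStage.Idx A)ᵒᵖ := Opposite.op ⟨1, one_ne_zero⟩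
  let s₀ : D.obj i₀ ⟶ Spec (CommRingCat.of A) := GrothLib.GenericStage.toBase A i₀
  let f₀ := pullback.snd q s₀
  have ht : c.π.app i₀ ≫ s₀ = t := GrothLib.GenericStage.cone_toBase A i₀
  let qX : pullback q t ⟶ pullback q s₀ := pullback.lift (pullback.fst q t)
    (pullback.snd q t ≫ c.π.app i₀) (by rw [Category.assoc, ht]; exact pullback.condition)
  have hX : IsPullback qX (pullback.snd q t) f₀ (c.π.app i₀) := by
    refine IsPullback.of_right ?_ (pullback.lift_snd _ _ _) (IsPullback.of_hasPullback q s₀)
    rw [pullback.lift_fst, ht]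
    exact IsPullback.of_hasPullback q t
  have hY : IsPullback (c.π.app i₀) (𝟙 c.pt) (𝟙 (D.obj i₀)) (c.π.app i₀) := IsPullback.of_id_fst.flip
  haveI : CompactSpace ↥(D.obj i₀) :=
    inferInstanceAs (CompactSpace (PrimeSpectrum ↥(GrothLib.GenericStage.sub A i₀.unop)))
  haveI : LocallyOfFinitePresentation f₀ := MorphismProperty.pullback_snd q s₀ inferInstance
  haveI : QuasiCompact f₀ := MorphismProperty.pullback_snd q s₀ inferInstance
  haveI : CompactSpace ↥(pullback q s₀) := QuasiCompact.compactSpace_of_compactSpace f₀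
  obtain ⟨j, φj, Xj, Yj, fj, gj, pY, pX, hYj, hXj, hj⟩ :=
    (GrothLib.LimSmooth.iff_exists_stage D (GrothLib.GenericStage.isLimitCone A) f₀ (𝟙 _) hY hX @Smooth
      (fun a b hb ha => by haveI := ha; haveI := hb; exact (inferInstance : Smooth (a ≫ b)))
      GrothLib.LimSmooth.affineCase_smooth).mp hL
  haveI : IsIso gj := MorphismProperty.of_isPullback (P := MorphismProperty.isomorphisms Scheme.{u})
    hYj (inferInstanceAs (IsIso (𝟙 (D.obj i₀))))
  let w : Yj ⟶ Spec (CommRingCat.of A) := gj ≫ GrothLib.GenericStage.toBase A j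
  have hw : pY ≫ s₀ = w := by
    have := hYj.w
    rw [Category.comp_id] at this
    rw [this, Category.assoc]
    exact congrArg (gj ≫ ·) (GrothLib.GenericStage.map_toBase A φj)
  have hp := hXj.paste_horiz (IsPullback.of_hasPullback q s₀)
  rw [hw] at hp
  haveI : Nonempty ↥(D.obj j) := inferInstance
  exact ⟨Yj, w, inferInstance, ⟨inv gj (Classical.arbitrary _)⟩,
    GrothLib.LimDesc.of_isPullback_of_isPullback @Smooth hp (IsPullback.of_hasPullback q w) hj⟩

end GrothLib.GenSmoothing26
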